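import Cfsg.Agent.SympSylowTwo.Model
import Mathlib.GroupTheory.SpecificGroups.Quaternion
import Mathlib.GroupTheory.Abelianization.Defs

/-!
# Abelianisation and normal 2-rank of Sylow 2-subgroups of `Sp(2n, q)`, `q` odd
-/

set_option autoImplicit false
set_option linter.style.haveILetI false
set_option linter.unusedSectionVars false

namespace CfsgLib.SympSylowTwo

open Matrix CfsgLib.SL2C

theorem quaternion_sq_mem {k : ℕ} (hk : 1 ≤ k) (x : QuaternionGroup (2 ^ k)) :
    x ^ 2 ∈ commutator (QuaternionGroup (2 ^ k)) := by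
  have key : ∀ i : ZMod (2 * 2 ^ k), QuaternionGroup.a (i + i) ∈ commutator (QuaternionGroup (2 ^ k)) := by
    intro i
    have h := Subgroup.commutator_mem_commutator (H₁ := (⊤ : Subgroup (QuaternionGroup (2 ^ k))))
      (H₂ := ⊤) (Subgroup.mem_top (QuaternionGroup.a i)) (Subgroup.mem_top (QuaternionGroup.xa 0))
    rw [_root_.commutator_def]
    convert h using 1
    rw [commutatorElement_def, eq_mul_inv_iff_mul_eq, eq_mul_inv_iff_mul_eq]
    simp
  rw [pow_two]
  cases x with
  | a i => rw [QuaternionGroup.a_mul_a]; exact key i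
  | xa i =>
    rw [QuaternionGroup.xa_mul_xa]
    have h := key ((2 ^ (k - 1) : ℕ) : ZMod (2 * 2 ^ k))
    rw [← Nat.cast_add, show 2 ^ (k - 1) + 2 ^ (k - 1) = 2 ^ k by
      rw [← two_mul, ← pow_succ']; congr 1; omega] at h
    simpa using h

variable {F : Type*} [Field F] [Fintype F]

theorem sylow_sl_facts (hodd : Odd (Fintype.card F)) (Q : Sylow 2 (SL F)) :
    (∀ x : (Q : Subgroup (SL F)), x ^ 2 ∈ commutator (Q : Subgroup (SL F))) ∧
    (∃ x : SL F, x ∈ (Q : Subgroup (SL F)) ∧ x * x ≠ 1) ∧
    commutator (Q : Subgroup (SL F)) ≠ ⊥ ∧ negOne F ∈ (Q : Subgroup (SL F)) := by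
  obtain ⟨k, hk, ⟨e⟩⟩ := CfsgLib.Linear.SylowTwoSL.exists_quaternion hodd Q
  have hsq : ∀ x : (Q : Subgroup (SL F)), x ^ 2 ∈ commutator (Q : Subgroup (SL F)) := fun x => by
    have h := map_derivedSeries_le_derivedSeries e.symm.toMonoidHom 1
    rw [derivedSeries_one, derivedSeries_one] at h
    have h' := h ⟨_, quaternion_sq_mem hk (e x), rfl⟩
    simpa using h'
  haveI : NeZero (2 ^ k) := ⟨pow_ne_zero _ two_ne_zero⟩
  set x : (Q : Subgroup (SL F)) := e.symm (QuaternionGroup.xa 0) with hx
  have hne : x * x ≠ 1 := fun h => by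
    have h' := congrArg e h
    rw [map_mul, map_one, hx, e.apply_symm_apply, QuaternionGroup.xa_mul_xa, ← QuaternionGroup.a_zero,
      QuaternionGroup.a.injEq, add_zero, sub_zero] at h'
    rw [ZMod.natCast_eq_zero_iff] at h'
    have := Nat.le_of_dvd (Nat.two_pow_pos k) h'
    have := Nat.two_pow_pos k
    omega
  refine ⟨hsq, ⟨x.1, x.2, fun h => hne (Subtype.ext h)⟩, fun hb => hne ?_, ?_⟩
  · have := hsq x
    rw [hb, Subgroup.mem_bot, pow_two] at this
    exact this
  · have hx4 : (x * x) * (x * x) = 1 := by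
      have h' : e ((x * x) * (x * x)) = e 1 := by
        rw [map_mul, map_mul, map_one, hx, e.apply_symm_apply, QuaternionGroup.xa_mul_xa,
          QuaternionGroup.a_mul_a, ← QuaternionGroup.a_zero]
        congr 1
        simp only [add_zero, sub_zero]
        rw [← Nat.cast_add, ← two_mul, ZMod.natCast_self]
      exact e.injective h'
    rw [← CfsgLib.Linear.SylowTwoSL.eq_neg_one hodd (g := ((x * x : (Q : Subgroup (SL F))) : SL F))
      (fun h => hne (Subtype.ext h)) (congrArg Subtype.val hx4)]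
    exact SetLike.coe_mem _

variable {n : ℕ}

/-- The base as a homomorphism into the model. -/
def baseIn (Q : Sylow 2 (SL F)) (n : ℕ) : (Fin n → (Q : Subgroup (SL F))) →* model Q n where
  toFun f := ⟨baseHom fun i => (f i : SL F), base_mem_model fun i => (f i).2⟩
  map_one' := Subtype.ext (map_one baseHom)
  map_mul' f g := Subtype.ext (map_mul baseHom (fun i => (f i : SL F)) (fun i => (g i : SL F)))

theorem sq_mem_commutator (hodd : Odd (Fintype.card F)) (Q : Sylow 2 (SL F))
    (x : model Q n) : x ^ 2 ∈ commutator (model Q n) := by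
  obtain ⟨hsq, -, -, -⟩ := sylow_sl_facts hodd Q
  let H : Subgroup (model Q n) :=
    ((powMonoidHom 2).comp (Abelianization.of (G := model Q n))).ker
  have hH : ∀ y : model Q n, y ∈ H ↔ y ^ 2 ∈ commutator (model Q n) := fun y => by
    rw [← Abelianization.ker_of, MonoidHom.mem_ker, MonoidHom.mem_ker, map_pow]
    rfl
  have hsingle : ∀ (i : Fin n) (s : (Q : Subgroup (SL F))), baseIn Q n (Pi.mulSingle i s) ∈ H := by
    intro i s
    rw [hH, ← map_pow, ← Pi.mulSingle_pow]
    have h := map_derivedSeries_le_derivedSeries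
      ((baseIn Q n).comp (MonoidHom.mulSingle (fun _ : Fin n => (Q : Subgroup (SL F))) i)) 1
    rw [derivedSeries_one, derivedSeries_one] at h
    exact h ⟨_, hsq s, rfl⟩
  have hbase : ∀ f : Fin n → (Q : Subgroup (SL F)), baseIn Q n f ∈ H := fun f => by
    have hall : ∀ s : Finset (Fin n),
        baseIn Q n (fun i => if i ∈ s then f i else 1) ∈ H := by
      intro s
      induction s using Finset.induction_on with
      | empty =>
        rw [show (fun i : Fin n => if i ∈ (∅ : Finset (Fin n)) then f i else 1) = 1 by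
          funext i; simp, map_one]
        exact one_mem H
      | insert a s ha ih =>
        rw [show (fun i => if i ∈ insert a s then f i else 1) =
          Pi.mulSingle a (f a) * (fun i => if i ∈ s then f i else 1) by
          funext i
          rcases eq_or_ne i a with rfl | hia
          · simp [ha]
          · simp [hia], map_mul]
        exact H.mul_mem (hsingle _ _) ih
    simpa using hall Finset.univ
  rw [← hH]
  obtain ⟨f, hf, σ, hσ, he⟩ := mem_model.1 x.2
  let p : CfsgLib.SylowAlt.tree n →* model Q n :=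
    ((permHom (F := F)).comp (CfsgLib.SylowAlt.tree n).subtype).codRestrict (model Q n)
      fun τ => perm_mem_model Q τ.2
  have hp : ∀ τ : CfsgLib.SylowAlt.tree n, p τ ∈ H := by
    rintro ⟨τ, hτ⟩
    have h := CfsgLib.OrthSylow.tree_le_closure_involutions n hτ
    clear he hσ
    have key : ∀ τ ∈ Subgroup.closure {τ | τ ∈ CfsgLib.SylowAlt.tree n ∧ τ * τ = 1},
        ∀ hτ : τ ∈ CfsgLib.SylowAlt.tree n, p ⟨τ, hτ⟩ ∈ H := by
      intro τ hmem
      induction hmem using Subgroup.closure_induction with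
      | mem t ht =>
        intro ht'
        rw [hH, ← map_pow, show (⟨t, ht'⟩ : CfsgLib.SylowAlt.tree n) ^ 2 = 1 from
          Subtype.ext (by simp [pow_two, ht.2]), map_one]
        exact one_mem _
      | one => intro _; rw [show (⟨1, _⟩ : CfsgLib.SylowAlt.tree n) = 1 from rfl, map_one]; exact one_mem H
      | mul a b ha hb iha ihb =>
        intro hab
        have hle : Subgroup.closure {τ | τ ∈ CfsgLib.SylowAlt.tree n ∧ τ * τ = 1} ≤
            CfsgLib.SylowAlt.tree n := (Subgroup.closure_le _).2 fun t ht => ht.1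
        rw [show (⟨a * b, hab⟩ : CfsgLib.SylowAlt.tree n) = ⟨a, hle ha⟩ * ⟨b, hle hb⟩ from rfl, map_mul]
        exact H.mul_mem (iha _) (ihb _)
      | inv a ha iha =>
        intro ha'
        rw [show (⟨a⁻¹, ha'⟩ : CfsgLib.SylowAlt.tree n) =
          (⟨a, inv_mem_iff.1 ha'⟩ : CfsgLib.SylowAlt.tree n)⁻¹ from rfl, map_inv]
        exact H.inv_mem (iha _)
    exact key τ h hτ
  have hx : x = baseIn Q n (fun i => ⟨f i, hf i⟩) * p ⟨σ, hσ⟩ := Subtype.ext he.symm
  rw [hx]
  exact H.mul_mem (hbase _) (hp _)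

theorem abelianization_sq (hodd : Odd (Fintype.card F))
    (S : Sylow 2 (Matrix.symplecticGroup (Fin n) F))
    (x : (S : Subgroup (Matrix.symplecticGroup (Fin n) F))) :
    x ^ 2 ∈ commutator (S : Subgroup (Matrix.symplecticGroup (Fin n) F)) := by
  let Q : Sylow 2 (SL F) := default
  obtain ⟨e⟩ := exists_iso hodd Q S
  have h := map_derivedSeries_le_derivedSeries e.symm.toMonoidHom 1
  rw [derivedSeries_one, derivedSeries_one] at h
  have h' := h ⟨_, sq_mem_commutator hodd Q (e x), rfl⟩
  simpa using h'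

theorem normal_rank (hodd : Odd (Fintype.card F)) (S : Sylow 2 (Matrix.symplecticGroup (Fin n) F)) :
    (∃ E : Subgroup (S : Subgroup (Matrix.symplecticGroup (Fin n) F)),
      E.Normal ∧ Cfsg.IsElementaryAbelian 2 E ∧ 2 ^ n ≤ Nat.card E) ∧
    ∀ E : Subgroup (S : Subgroup (Matrix.symplecticGroup (Fin n) F)),
      E.Normal → Cfsg.IsElementaryAbelian 2 E → Nat.card E ≤ 2 ^ n := by
  classical
  let Q : Sylow 2 (SL F) := default
  obtain ⟨e⟩ := exists_iso hodd Q S
  obtain ⟨-, ⟨x, hxQ, hxx⟩, -, hneg⟩ := sylow_sl_facts hodd Q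
  have hz : ∀ y : SL F, negOne F * y = y * negOne F := fun y => by
    refine (Subgroup.mem_center_iff.1 ?_ y).symm
    exact negOne_mem_center
  have hnn : negOne F * negOne F = 1 := by
    rw [negOne, ← map_mul, neg_mul_neg, one_mul, map_one]
  have hn1 : negOne F ≠ 1 := negOne_ne_one hodd
  -- transfer of normal elementary abelian subgroups
  have htr : ∀ {A B : Type _} [Group A] [Group B] (φ : A ≃* B) (E : Subgroup A), E.Normal →
      Cfsg.IsElementaryAbelian 2 E → (E.map φ.toMonoidHom).Normal ∧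
        Cfsg.IsElementaryAbelian 2 (E.map φ.toMonoidHom) ∧
        Nat.card (E.map φ.toMonoidHom) = Nat.card E := by
    intro A B _ _ φ E hN hE
    haveI := hE.1
    refine ⟨hN.map _ φ.surjective, ⟨inferInstance, ?_⟩, Subgroup.card_map_of_injective φ.injective⟩
    rintro _ ⟨y, hy, rfl⟩
    rw [← map_pow, hE.2 y hy, map_one]
  refine ⟨?_, fun E hN hE => ?_⟩
  · let Z : Subgroup (SL F) := Subgroup.zpowers (negOne F)
    have hZQ : Z ≤ (Q : Subgroup (SL F)) := Subgroup.zpowers_le.2 hneg
    have hZc : ∀ z ∈ Z, ∀ y : SL F, y * z * y⁻¹ = z := by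
      rintro _ ⟨i, rfl⟩ y
      rw [((show Commute y (negOne F) from (hz y).symm).zpow_right i).eq, mul_inv_cancel_right]
    let ε : (Fin n → Z) →* model Q n :=
      (baseIn Q n).comp (MonoidHom.piMap fun _ => Subgroup.inclusion hZQ)
    have hεv : ∀ f, ((ε f : model Q n) : Matrix.symplecticGroup (Fin n) F) =
        baseHom (fun i => (f i : SL F)) := fun f => rfl
    have hεinj : Function.Injective ε := fun f g h => funext fun i => Subtype.ext
      (congrFun (baseHom_injective ((hεv f).symm.trans ((congrArg Subtype.val h).trans (hεv g)))) i)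
    have hN : ε.range.Normal := ⟨by
      rintro _ ⟨f, rfl⟩ y
      obtain ⟨g, hg, σ, hσ, he⟩ := mem_model.1 y.2
      refine ⟨fun i => f (σ.symm i), Subtype.ext ?_⟩
      rw [Subgroup.coe_mul, Subgroup.coe_mul, Subgroup.coe_inv, hεv, hεv, ← he]
      rw [_root_.mul_inv_rev, show baseHom g * permHom σ * baseHom (fun i => (f i : SL F)) *
        ((permHom σ)⁻¹ * (baseHom g)⁻¹) = baseHom g * (permHom σ * baseHom (fun i => (f i : SL F)) *
        (permHom σ)⁻¹) * (baseHom g)⁻¹ by group, conj_base, ← map_mul, ← map_inv, ← map_mul]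
      congr 1
      funext i
      exact (hZc _ (f (σ.symm i)).2 (g i)).symm⟩
    have hZ2 : ∀ z ∈ Z, z ^ 2 = 1 := by
      rintro _ ⟨i, rfl⟩
      have h2 : negOne F ^ 2 = 1 := by rw [pow_two]; exact hnn
      rw [← zpow_natCast, zpow_comm, zpow_natCast, h2, _root_.one_zpow]
    have hE : Cfsg.IsElementaryAbelian 2 ε.range := by
      refine ⟨⟨⟨?_⟩⟩, ?_⟩
      · rintro ⟨_, f, rfl⟩ ⟨_, g, rfl⟩
        exact Subtype.ext (show ε f * ε g = ε g * ε f by
          rw [← map_mul, ← map_mul]
          exact congrArg ε (funext fun i => Subtype.ext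
            (mul_inv_eq_iff_eq_mul.1 (hZc _ (f i).2 (g i))).symm))
      · rintro _ ⟨f, rfl⟩
        rw [← map_pow, show f ^ 2 = 1 from funext fun i => Subtype.ext (hZ2 _ (f i).2), map_one]
    obtain ⟨h1, h2, h3⟩ := htr e.symm ε.range hN hE
    refine ⟨_, h1, h2, le_of_eq ?_⟩
    haveI : Fact (Nat.Prime 2) := ⟨Nat.prime_two⟩
    rw [h3, ← Nat.card_congr (MonoidHom.ofInjective (f := ε) hεinj).toEquiv, Nat.card_pi,
      Finset.prod_const, Finset.card_univ, Fintype.card_fin, Nat.card_zpowers,
      orderOf_eq_prime (by rw [pow_two]; exact hnn) hn1]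
  · obtain ⟨hN', hE', hc⟩ := htr e E hN hE
    rw [← hc]
    generalize E.map e.toMonoidHom = E' at hN' hE' ⊢
    have hform : ∀ w ∈ E', ∃ f : Fin n → SL F,
        (∀ i, f i = 1 ∨ f i = negOne F) ∧ (w : Matrix.symplecticGroup (Fin n) F) = baseHom f := by
      intro w hw
      obtain ⟨f, hf, σ, hσ, he⟩ := mem_model.1 w.2
      have hσ1 : σ = 1 := by
        refine Equiv.ext fun i => ?_
        by_contra hne
        rw [Equiv.Perm.one_apply] at hne
        let b : model Q n := ⟨baseHom (Pi.mulSingle i x), base_mem_model fun j => by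
          rcases eq_or_ne j i with rfl | hji
          · rw [Pi.mulSingle_eq_same]; exact hxQ
          · rw [Pi.mulSingle_eq_of_ne hji]; exact one_mem _⟩
        have hcE : w * b * w⁻¹ * b⁻¹ ∈ E' := by
          rw [show w * b * w⁻¹ * b⁻¹ = w * (b * w⁻¹ * b⁻¹) by group]
          exact E'.mul_mem hw (hN'.conj_mem _ (E'.inv_mem hw) b)
        have h2 := congrArg Subtype.val (hE'.2 _ hcE)
        rw [pow_two, Subgroup.coe_mul, Subgroup.coe_mul, Subgroup.coe_mul, Subgroup.coe_mul,
          Subgroup.coe_inv, Subgroup.coe_inv, Subgroup.coe_one, ← he] at h2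
        rw [show baseHom f * permHom σ * baseHom (Pi.mulSingle i x) * (baseHom f * permHom σ)⁻¹ *
          (baseHom (Pi.mulSingle i x))⁻¹ = baseHom f * (permHom σ * baseHom (Pi.mulSingle i x) *
          (permHom σ)⁻¹) * (baseHom f)⁻¹ * (baseHom (Pi.mulSingle i x))⁻¹ by group, conj_base,
          ← map_inv, ← map_inv, ← map_mul, ← map_mul, ← map_mul, ← map_mul] at h2
        have h3 := congrFun (baseHom_injective (h2.trans (map_one baseHom).symm)) i
        have hsi : σ.symm i ≠ i := fun h => hne (by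
          have := congrArg σ h
          rw [Equiv.apply_symm_apply] at this
          exact this.symm)
        simp only [Pi.mul_apply, Pi.inv_apply, Pi.one_apply, Pi.mulSingle_eq_same,
          Pi.mulSingle_eq_of_ne hsi, mul_one, mul_inv_cancel, one_mul] at h3
        exact hxx (by rw [← inv_eq_one, _root_.mul_inv_rev, h3])
      rw [hσ1, map_one, mul_one] at he
      refine ⟨f, fun i => ?_, he.symm⟩
      have h2 := congrArg Subtype.val (hE'.2 w hw)
      rw [pow_two, Subgroup.coe_mul, Subgroup.coe_one, ← he, ← map_mul] at h2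
      have h3 := congrFun (baseHom_injective (h2.trans (map_one baseHom).symm)) i
      exact (em (f i = 1)).imp_right fun h => CfsgLib.Linear.SylowTwoSL.eq_neg_one hodd h h3
    choose f hf hw using hform
    refine le_trans (Nat.card_le_card_of_injective
      (fun w : E' => fun i => decide (f w.1 w.2 i = 1)) ?_) (le_of_eq (by simp [Nat.card_eq_fintype_card]))
    intro u v h
    refine Subtype.ext (Subtype.ext ?_)
    rw [hw u.1 u.2, hw v.1 v.2]
    congr 1
    funext i
    have h' := congrFun h i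
    simp only [decide_eq_decide] at h'
    rcases hf u.1 u.2 i with h1 | h1 <;> rcases hf v.1 v.2 i with h2 | h2 <;> rw [h1, h2]
    · exact absurd (h'.1 h1) (by rw [h2]; exact hn1)
    · exact absurd (h'.2 h2) (by rw [h1]; exact hn1)

end CfsgLib.SympSylowTwo
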