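import Cfsg.Agent.SympSylowTwo.Main
import Cfsg.Agent.FGSB.LinearDerivedLengthMain
import Mathlib.GroupTheory.Solvable

/-!
# Derived length of Sylow 2-subgroups of `Sp(2n, q)`, `q` odd
-/

set_option autoImplicit false
set_option linter.style.haveILetI false

namespace CfsgLib.SympSylowTwo

open Matrix CfsgLib.SL2C

/-- If `W` contains two commuting copies of `A` interchanged by an element, its derived length exceeds that of `A`. -/
theorem derived_double {A W : Type*} [Group A] [Group W] (j : A × A →* W) (hj : Function.Injective j)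
    (w : W) (hw : ∀ x y, w * j (x, y) * w⁻¹ = j (y, x)) :
    ∀ i, ∀ x ∈ derivedSeries A i, ∃ y, j (x, y) ∈ derivedSeries W (i + 1) := by
  intro i
  induction i with
  | zero =>
    intro x _
    refine ⟨x⁻¹, ?_⟩
    have h := Subgroup.commutator_mem_commutator (H₁ := (⊤ : Subgroup W)) (H₂ := (⊤ : Subgroup W))
      (Subgroup.mem_top (j (x, 1))) (Subgroup.mem_top w)
    rw [derivedSeries_one, _root_.commutator_def]
    convert h using 1
    rw [commutatorElement_def, show j (x, 1) * w * (j (x, 1))⁻¹ * w⁻¹ =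
      j (x, 1) * (w * (j (x, 1))⁻¹ * w⁻¹) by group, ← map_inv, show ((x, (1 : A))⁻¹ : A × A) = (x⁻¹, 1) by simp, hw, ← map_mul]
    simp
  | succ i ih =>
    intro x hx
    rw [derivedSeries_succ] at hx
    let D : Subgroup A :=
      { carrier := {x | ∃ y, j (x, y) ∈ derivedSeries W (i + 1 + 1)}
        one_mem' := ⟨1, by rw [show ((1 : A), (1 : A)) = 1 from rfl, map_one]; exact one_mem _⟩
        mul_mem' := fun {a b} ⟨y, hy⟩ ⟨y', hy'⟩ => ⟨y * y', by
          rw [show (a * b, y * y') = (a, y) * (b, y') from rfl, map_mul]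
          exact mul_mem hy hy'⟩
        inv_mem' := fun {a} ⟨y, hy⟩ => ⟨y⁻¹, by
          rw [show (a⁻¹, y⁻¹) = (a, y)⁻¹ from rfl, map_inv]
          exact Subgroup.inv_mem _ hy⟩ }
    refine (Subgroup.commutator_le (H₃ := D)).2 (fun a ha b hb => ?_) hx
    obtain ⟨y, hy⟩ := ih a ha
    obtain ⟨y', hy'⟩ := ih b hb
    refine ⟨y * y' * y⁻¹ * y'⁻¹, ?_⟩
    rw [derivedSeries_succ W (i + 1)]
    have h := Subgroup.commutator_mem_commutator hy hy'
    convert h using 1
    rw [commutatorElement_def, commutatorElement_def, ← map_inv, ← map_inv, ← map_mul, ← map_mul,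
      ← map_mul]
    rfl

variable {F : Type*} [Field F] [Fintype F]

theorem exists_two_subgroup (hodd : Odd (Fintype.card F)) : ∀ j : ℕ,
    ∃ P : Subgroup (Matrix.symplecticGroup (Fin (2 ^ j)) F), IsPGroup 2 P ∧ derivedSeries P (j + 1) ≠ ⊥ := by
  intro j
  induction j with
  | zero =>
    let Q : Sylow 2 (SL F) := default
    let φ : (Q : Subgroup (SL F)) →* Matrix.symplecticGroup (Fin (2 ^ 0)) F :=
      baseHom.comp (Pi.constMonoidHom (Fin (2 ^ 0)) (SL F) |>.comp (Q : Subgroup (SL F)).subtype)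
    have hφ : Function.Injective φ := fun u v h =>
      Subtype.ext (congrFun (baseHom_injective h) ⟨0, by norm_num⟩)
    refine ⟨φ.range, Q.isPGroup'.of_equiv (MonoidHom.ofInjective hφ), fun hb => ?_⟩
    refine (sylow_sl_facts hodd Q).2.2.1 ?_
    have h := map_derivedSeries_le_derivedSeries (MonoidHom.ofInjective hφ).toMonoidHom 1
    rw [hb, le_bot_iff] at h
    have h' := (Subgroup.map_eq_bot_iff_of_injective _ (MonoidHom.ofInjective hφ).injective).1 h
    rwa [derivedSeries_one] at h'
  | succ j ih =>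
    obtain ⟨P, hP, hne⟩ := ih
    let e : Fin (2 ^ j) ⊕ Fin (2 ^ j) ≃ Fin (2 ^ (j + 1)) :=
      finSumFinEquiv.trans (finCongr (by rw [pow_succ]; ring))
    let B : Matrix.symplecticGroup (Fin (2 ^ j)) F × Matrix.symplecticGroup (Fin (2 ^ j)) F →*
        Matrix.symplecticGroup (Fin (2 ^ j) ⊕ Fin (2 ^ j)) F := CfsgLib.Symp.blockHom
    let w : Matrix.symplecticGroup (Fin (2 ^ j) ⊕ Fin (2 ^ j)) F :=
      permHom (Equiv.sumComm (Fin (2 ^ j)) (Fin (2 ^ j)))
    let E := CfsgLib.Symp.congrSp (R := F) e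
    have hw : ∀ x y, w * B (x, y) * w⁻¹ = B (y, x) := by
      intro x y
      rw [mul_inv_eq_iff_eq_mul]
      refine CfsgLib.Symp.symp_ext fun v => ?_
      rw [mul_smul, mul_smul]
      simp only [B, CfsgLib.Symp.blockHom_smul]
      have hA : CfsgLib.Symp.resA (w • v) = CfsgLib.Symp.resB v := by
        funext k; rw [show CfsgLib.Symp.resA (w • v) k = (w • v) (Sum.map Sum.inl Sum.inl k) from rfl, permHom_smul]
        rcases k with i | i <;> rfl
      have hB : CfsgLib.Symp.resB (w • v) = CfsgLib.Symp.resA v := by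
        funext k; rw [show CfsgLib.Symp.resB (w • v) k = (w • v) (Sum.map Sum.inr Sum.inr k) from rfl, permHom_smul]
        rcases k with i | i <;> rfl
      rw [hA, hB]
      funext k
      rw [permHom_smul]
      rcases k with (i | i) | (i | i) <;> rfl
    let j₀ : P × P →* Matrix.symplecticGroup (Fin (2 ^ j) ⊕ Fin (2 ^ j)) F :=
      B.comp (P.subtype.prodMap P.subtype)
    have hj₀ : Function.Injective j₀ := CfsgLib.Symp.blockHom_injective.comp
      (Prod.map_injective.2 ⟨P.subtype_injective, P.subtype_injective⟩)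
    have hw2 : w * w = 1 := by
      rw [← map_mul, show Equiv.sumComm (Fin (2 ^ j)) (Fin (2 ^ j)) * Equiv.sumComm _ _ = 1 by
        refine Equiv.ext fun k => ?_
        cases k <;> rfl, map_one]
    have hwr : Subgroup.zpowers w ≤ Subgroup.normalizer (j₀.range : Set _) := by
      refine Subgroup.zpowers_le.2 (Subgroup.mem_normalizer_iff.2 fun g => ⟨?_, ?_⟩)
      · rintro ⟨⟨a, b⟩, rfl⟩
        exact ⟨(b, a), (hw _ _).symm⟩
      · rintro ⟨⟨a, b⟩, hab⟩
        refine ⟨(b, a), ?_⟩
        have hinv : w⁻¹ = w := inv_eq_of_mul_eq_one_right hw2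
        rw [show j₀ (b, a) = w * j₀ (a, b) * w⁻¹ from (hw _ _).symm, hab,
          show w * (w * g * w⁻¹) * w⁻¹ = (w * w) * g * (w⁻¹ * w⁻¹) by group, hinv, hw2, one_mul, mul_one]
    haveI : Fact (Nat.Prime 2) := ⟨Nat.prime_two⟩
    set W := Subgroup.zpowers w ⊔ j₀.range with hW
    have hWp : IsPGroup 2 W := by
      have h1 : IsPGroup 2 (P × P) := by
        obtain ⟨a, ha⟩ := IsPGroup.iff_card.1 hP
        exact IsPGroup.of_card (n := a + a) (by rw [Nat.card_prod, ha, ← pow_add])
      have h2 : IsPGroup 2 (Subgroup.zpowers w) := by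
        rintro ⟨g, i, rfl⟩
        refine ⟨1, Subtype.ext ?_⟩
        show (w ^ i) ^ (2 ^ 1) = 1
        rw [pow_one, ← zpow_natCast, zpow_comm, zpow_natCast, pow_two, hw2, _root_.one_zpow]
      exact h2.to_sup_of_normal_right' (h1.of_equiv (MonoidHom.ofInjective hj₀)) hwr
    let jW : P × P →* W := j₀.codRestrict W fun x => Subgroup.mem_sup_right ⟨x, rfl⟩
    have hjW : Function.Injective jW := fun u v h => hj₀ (congrArg Subtype.val h :)
    let wW : W := ⟨w, Subgroup.mem_sup_left (Subgroup.mem_zpowers w)⟩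
    refine ⟨W.map E.toMonoidHom, hWp.of_equiv (W.equivMapOfInjective _ E.injective), fun hb => ?_⟩
    obtain ⟨x, hx, hx1⟩ := (Subgroup.bot_or_exists_ne_one (derivedSeries P (j + 1))).resolve_left hne
    obtain ⟨y, hy⟩ := derived_double jW hjW wW (fun a b => Subtype.ext (hw a b)) (j + 1) x hx
    have h := map_derivedSeries_le_derivedSeries
      (W.equivMapOfInjective E.toMonoidHom E.injective).toMonoidHom (j + 1 + 1)
    rw [hb, le_bot_iff] at h
    rw [(Subgroup.map_eq_bot_iff_of_injective _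
      (W.equivMapOfInjective E.toMonoidHom E.injective).injective).1 h, Subgroup.mem_bot,
      ← map_one jW] at hy
    exact hx1 (congrArg Prod.fst (hjW hy) :)

theorem derived_main [DecidableEq F] {q : ℕ} (hF : Fintype.card F = q) (hq : Odd q) (n : ℕ) (hn : 1 ≤ n)
    (R : Sylow 2 (Matrix.symplecticGroup (Fin n) F)) :
    derivedSeries (R : Subgroup (Matrix.symplecticGroup (Fin n) F)) (Nat.log 2 (2 * n) + 1) = ⊥ ∧
      derivedSeries (R : Subgroup (Matrix.symplecticGroup (Fin n) F)) (Nat.log 2 (2 * n)) ≠ ⊥ := by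
  haveI : Fact (Nat.Prime 2) := ⟨Nat.prime_two⟩
  have hodd : Odd (Fintype.card F) := hF ▸ hq
  refine ⟨?_, ?_⟩
  · let e : Fin n ⊕ Fin n ≃ Fin (n + n) := finSumFinEquiv
    let φ : (R : Subgroup (Matrix.symplecticGroup (Fin n) F)) →* GL (Fin (n + n)) F :=
      (((Matrix.reindexRingEquiv F e).toMonoidHom).comp
        ((Submonoid.subtype _).comp (R : Subgroup (Matrix.symplecticGroup (Fin n) F)).subtype)).toHomUnits
    have hφ : Function.Injective φ := fun u v h => by
      have h' := congrArg Units.val h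
      exact Subtype.ext (Subtype.ext ((Matrix.reindexRingEquiv F e).injective h'))
    have hne : ¬ 2 ∣ Fintype.card F := by obtain ⟨r, hr⟩ := hodd; omega
    have hord : orderOf (Fintype.card F : ZMod 2) = 1 := by
      rw [orderOf_eq_one_iff]
      exact (ZMod.natCast_eq_one_iff_odd).2 hodd
    refine (Subgroup.eq_bot_iff_forall _).2 fun g hg => hφ ?_
    rw [map_one]
    refine CfsgLib.LinearDerivedLength.CrossChar.upper hne R.isPGroup' φ ?_
    rw [hord, Nat.div_one, ← two_mul]
    exact hg
  · have hlog : Nat.log 2 (2 * n) = Nat.log 2 n + 1 := by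
      rw [mul_comm, Nat.log_mul_base one_lt_two (by omega)]
    rw [hlog]
    obtain ⟨P, hP, hne⟩ := exists_two_subgroup (F := F) hodd (Nat.log 2 n)
    have hm : 2 ^ Nat.log 2 n ≤ n := Nat.pow_log_le_self 2 (by omega)
    let e : Fin (2 ^ Nat.log 2 n) ⊕ Fin (n - 2 ^ Nat.log 2 n) ≃ Fin n :=
      finSumFinEquiv.trans (finCongr (by omega))
    let φ : P →* Matrix.symplecticGroup (Fin n) F :=
      (CfsgLib.Symp.congrSp (R := F) e).toMonoidHom.comp
        (CfsgLib.Symp.blockHom.comp ((MonoidHom.inl _ _).comp P.subtype))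
    have hφ : Function.Injective φ := (CfsgLib.Symp.congrSp (R := F) e).injective.comp
      (CfsgLib.Symp.blockHom_injective.comp fun u v h => Subtype.ext (congrArg Prod.fst h :))
    have hp : IsPGroup 2 φ.range := hP.of_equiv (MonoidHom.ofInjective hφ)
    obtain ⟨R', hR'⟩ := hp.exists_le_sylow
    let i : P →* (R : Subgroup (Matrix.symplecticGroup (Fin n) F)) :=
      (R'.equiv R).toMonoidHom.comp ((Subgroup.inclusion hR').comp φ.rangeRestrict)
    have hi : Function.Injective i := (R'.equiv R).injective.comp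
      ((Subgroup.inclusion_injective hR').comp fun u v h => hφ (congrArg Subtype.val h :))
    intro hb
    have h := map_derivedSeries_le_derivedSeries i (Nat.log 2 n + 1)
    rw [hb, le_bot_iff] at h
    exact hne ((Subgroup.map_eq_bot_iff_of_injective _ hi).1 h)

end CfsgLib.SympSylowTwo
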