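import Cfsg.Agent.Classical.SymplecticBlocks
import Cfsg.Agent.Classical.LinearOrder
import Cfsg.Agent.Classical.SylowTwoSL
import Cfsg.Agent.OrthSylow.Arith
import Cfsg.Agent.OrthSylow.Tree
import Cfsg.Agent.Solvable.Basics
import Cfsg.Prelude.Def_Transfer

/-!
# A Sylow 2-subgroup of `Sp(2n, q)`, `q` odd: `Q ≀ tree n` with `Q` quaternion Sylow of `SL(2, q)`
-/

set_option autoImplicit false
set_option linter.style.haveILetI false
set_option linter.unusedSectionVars false

namespace CfsgLib.SympSylowTwo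

open Matrix CfsgLib.SL2C

variable {a : Type*} [Fintype a] [DecidableEq a] {F : Type*} [Field F]

/-- Independent elements of `SL 2` on the hyperbolic planes. -/
def baseMat (f : a → SL F) : Matrix (a ⊕ a) (a ⊕ a) F :=
  Matrix.fromBlocks (Matrix.diagonal fun i => (f i).1 0 0) (Matrix.diagonal fun i => (f i).1 0 1)
    (Matrix.diagonal fun i => (f i).1 1 0) (Matrix.diagonal fun i => (f i).1 1 1)

theorem baseMat_mem (f : a → SL F) : baseMat f ∈ Matrix.symplecticGroup a F := by
  have hd : ∀ i, (f i).1 0 0 * (f i).1 1 1 - (f i).1 0 1 * (f i).1 1 0 = 1 := fun i => by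
    rw [← Matrix.det_fin_two]; exact (f i).2
  rw [SymplecticGroup.mem_iff, baseMat, Matrix.J, Matrix.fromBlocks_multiply,
    Matrix.fromBlocks_transpose, Matrix.fromBlocks_multiply]
  ext (i | i) (j | j) <;> rcases eq_or_ne i j with rfl | hij <;>
    simp_all [Matrix.diagonal_apply_ne, Matrix.one_apply] <;>
    first | ring1 | linear_combination hd _ | linear_combination -hd _

/-- `(SL 2)^a → Sp a`. -/
def baseHom : (a → SL F) →* Matrix.symplecticGroup a F where
  toFun f := ⟨baseMat f, baseMat_mem f⟩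
  map_one' := Subtype.ext (by
    show baseMat 1 = 1
    rw [← Matrix.fromBlocks_one]
    simp [baseMat])
  map_mul' f g := Subtype.ext (by
    show baseMat (f * g) = baseMat f * baseMat g
    simp [baseMat, Matrix.fromBlocks_multiply, Matrix.mul_apply, Fin.sum_univ_two])

theorem baseHom_injective : Function.Injective (baseHom (a := a) (F := F)) := by
  intro f g h
  have h' : baseMat f = baseMat g := congrArg Subtype.val h
  funext i
  refine Subtype.ext (Matrix.ext ?_)
  simp only [Fin.forall_fin_two]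
  refine ⟨⟨?_, ?_⟩, ⟨?_, ?_⟩⟩
  · simpa [baseMat] using congrFun (congrFun h' (.inl i)) (.inl i)
  · simpa [baseMat] using congrFun (congrFun h' (.inl i)) (.inr i)
  · simpa [baseMat] using congrFun (congrFun h' (.inr i)) (.inl i)
  · simpa [baseMat] using congrFun (congrFun h' (.inr i)) (.inr i)

theorem baseHom_inl (f : a → SL F) (v : a ⊕ a → F) (i : a) :
    (baseHom f • v) (.inl i) = (f i).1 0 0 * v (.inl i) + (f i).1 0 1 * v (.inr i) := by
  show (baseMat f *ᵥ v) (.inl i) = _
  simp [baseMat, Matrix.fromBlocks_mulVec, Matrix.mulVec_diagonal]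

theorem baseHom_inr (f : a → SL F) (v : a ⊕ a → F) (i : a) :
    (baseHom f • v) (.inr i) = (f i).1 1 0 * v (.inl i) + (f i).1 1 1 * v (.inr i) := by
  show (baseMat f *ᵥ v) (.inr i) = _
  simp [baseMat, Matrix.fromBlocks_mulVec, Matrix.mulVec_diagonal]

/-- The matrix of a permutation of the planes. -/
def permMat (σ : Equiv.Perm a) : Matrix (a ⊕ a) (a ⊕ a) F :=
  (1 : Matrix (a ⊕ a) (a ⊕ a) F).submatrix (Sum.map σ.symm σ.symm) id

theorem permMat_mulVec (σ : Equiv.Perm a) (v : a ⊕ a → F) (k : a ⊕ a) :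
    (permMat σ *ᵥ v) k = v (Sum.map σ.symm σ.symm k) := by
  simp [permMat, Matrix.mulVec, dotProduct, Matrix.one_apply]

theorem permMat_mem (σ : Equiv.Perm a) : permMat (F := F) σ ∈ Matrix.symplecticGroup a F := by
  rw [CfsgLib.Symp.mem_iff_form]
  intro u v
  simp only [CfsgLib.Symp.form_apply, permMat_mulVec, Sum.map_inl, Sum.map_inr]
  exact Equiv.sum_comp σ.symm fun i => u (.inr i) * v (.inl i) - u (.inl i) * v (.inr i)

/-- Permutations of the planes. -/
def permHom : Equiv.Perm a →* Matrix.symplecticGroup a F where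
  toFun σ := ⟨permMat σ, permMat_mem σ⟩
  map_one' := CfsgLib.Symp.symp_ext fun v => funext fun k => by
    show (permMat 1 *ᵥ v) k = ((1 : Matrix (a ⊕ a) (a ⊕ a) F) *ᵥ v) k
    rw [permMat_mulVec, Matrix.one_mulVec]
    cases k <;> rfl
  map_mul' σ τ := CfsgLib.Symp.symp_ext fun v => funext fun k => by
    show (permMat (σ * τ) *ᵥ v) k = ((permMat σ * permMat τ) *ᵥ v) k
    rw [permMat_mulVec, ← Matrix.mulVec_mulVec, permMat_mulVec, permMat_mulVec]
    cases k <;> rfl

theorem permHom_smul (σ : Equiv.Perm a) (v : a ⊕ a → F) (k : a ⊕ a) :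
    (permHom (F := F) σ • v) k = v (Sum.map σ.symm σ.symm k) := permMat_mulVec σ v k

theorem conj_base (σ : Equiv.Perm a) (f : a → SL F) :
    permHom σ * baseHom f * (permHom σ)⁻¹ = baseHom (fun i => f (σ.symm i)) := by
  rw [mul_inv_eq_iff_eq_mul]
  refine CfsgLib.Symp.symp_ext fun v => funext fun k => ?_
  rw [mul_smul, mul_smul]
  rcases k with i | i
  · rw [permHom_smul, Sum.map_inl, baseHom_inl, baseHom_inl, permHom_smul, permHom_smul]
    rfl
  · rw [permHom_smul, Sum.map_inr, baseHom_inr, baseHom_inr, permHom_smul, permHom_smul]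
    rfl

theorem perm_eq_one {σ : Equiv.Perm a} {f : a → SL F} (h : permHom σ = baseHom f) : σ = 1 := by
  refine Equiv.ext fun j => ?_
  by_contra hne
  rw [Equiv.Perm.one_apply] at hne
  have h1 := congrArg (fun g : Matrix.symplecticGroup a F =>
    (g • (Pi.single (.inl j) (1 : F) : a ⊕ a → F)) (.inl (σ j))) h
  simp [permHom_smul, baseHom_inl, hne] at h1

theorem permHom_injective : Function.Injective (permHom (a := a) (F := F)) := by
  refine (MonoidHom.ker_eq_bot_iff _).1 (eq_bot_iff.2 fun σ hσ => Subgroup.mem_bot.2 ?_)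
  exact perm_eq_one (f := 1) (by rw [map_one]; exact hσ)

section Sylow

variable [Fintype F] {n : ℕ}

/-- The base group of the model. -/
def base (Q : Sylow 2 (SL F)) (n : ℕ) : Subgroup (Matrix.symplecticGroup (Fin n) F) :=
  (Subgroup.pi Set.univ fun _ : Fin n => (Q : Subgroup (SL F))).map baseHom

/-- The top group of the model. -/
def top (F : Type*) [Field F] (n : ℕ) : Subgroup (Matrix.symplecticGroup (Fin n) F) :=
  (CfsgLib.SylowAlt.tree n).map permHom

/-- The model `Q ≀ tree n`. -/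
def model (Q : Sylow 2 (SL F)) (n : ℕ) : Subgroup (Matrix.symplecticGroup (Fin n) F) :=
  top F n ⊔ base Q n

theorem top_le_normalizer (Q : Sylow 2 (SL F)) :
    top F n ≤ Subgroup.normalizer (base Q n : Set _) := by
  rintro _ ⟨σ, hσ, rfl⟩
  have key : ∀ (τ : Equiv.Perm (Fin n)), ∀ x ∈ base Q n,
      permHom τ * x * (permHom τ)⁻¹ ∈ base Q n := by
    rintro τ _ ⟨f, hf, rfl⟩
    exact ⟨fun i => f (τ.symm i), fun i _ => hf _ trivial, (conj_base τ f).symm⟩
  refine Subgroup.mem_normalizer_iff.2 fun x => ⟨key σ x, fun hx => ?_⟩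
  have h := key σ⁻¹ _ hx
  rw [map_inv] at h
  simpa [mul_assoc] using h

theorem mem_model {Q : Sylow 2 (SL F)} {x : Matrix.symplecticGroup (Fin n) F} :
    x ∈ model Q n ↔ ∃ f : Fin n → SL F, (∀ i, f i ∈ (Q : Subgroup (SL F))) ∧
      ∃ σ ∈ CfsgLib.SylowAlt.tree n, baseHom f * permHom σ = x := by
  rw [model, CfsgLib.Solvable.mem_sup_of_le_normalizer (top_le_normalizer Q)]
  constructor
  · rintro ⟨_, ⟨σ, hσ, rfl⟩, _, ⟨f, hf, rfl⟩, rfl⟩
    exact ⟨fun i => f (σ.symm i), fun i => hf _ trivial, σ, hσ, by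
      rw [← conj_base, inv_mul_cancel_right]⟩
  · rintro ⟨f, hf, σ, hσ, rfl⟩
    refine ⟨_, ⟨σ, hσ, rfl⟩, baseHom (fun i => f (σ i)), ⟨_, fun i _ => hf _, rfl⟩, ?_⟩
    have h := conj_base σ (fun i => f (σ i))
    simp only [Equiv.apply_symm_apply] at h
    rw [← h, inv_mul_cancel_right]

theorem base_mem_model {Q : Sylow 2 (SL F)} {f : Fin n → SL F}
    (hf : ∀ i, f i ∈ (Q : Subgroup (SL F))) : baseHom f ∈ model Q n :=
  mem_model.2 ⟨f, hf, 1, one_mem _, by rw [map_one, mul_one]⟩

theorem perm_mem_model (Q : Sylow 2 (SL F)) {σ : Equiv.Perm (Fin n)}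
    (hσ : σ ∈ CfsgLib.SylowAlt.tree n) : permHom σ ∈ model Q n :=
  mem_model.2 ⟨1, fun _ => one_mem _, σ, hσ, by rw [map_one, one_mul]⟩

theorem card_model (hodd : Odd (Fintype.card F)) (Q : Sylow 2 (SL F)) :
    Nat.card (model Q n) = 2 ^ (Nat.card (Matrix.symplecticGroup (Fin n) F)).factorization 2 := by
  haveI : Fact (Nat.Prime 2) := ⟨Nat.prime_two⟩
  set q := Fintype.card F with hq
  have hq3 : 3 ≤ q := by
    obtain ⟨r, hr⟩ := hodd
    have : 1 < Fintype.card F := Fintype.one_lt_card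
    omega
  have hdis : top F n ⊓ base Q n = ⊥ := by
    rw [eq_bot_iff]
    rintro _ ⟨⟨σ, _, rfl⟩, f, _, hf⟩
    rw [Subgroup.mem_bot, perm_eq_one hf.symm, map_one]
  have hQ : Nat.card (Q : Subgroup (SL F)) = 2 ^ (CfsgLib.OrthSylow.torusExp q + 1) := by
    rw [Q.card_eq_multiplicity]
    congr 1
    rw [Nat.factorization_def _ Nat.prime_two]
    have h := CfsgLib.Linear.card_SL_mul (F := F) rfl 2 (by norm_num)
    simp only [Fin.prod_univ_two, Fin.val_zero, Fin.val_one, pow_zero, pow_one] at h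
    rw [← hq] at h
    have hp : padicValNat 2 ((q ^ 2 - 1) * (q ^ 2 - q)) =
        CfsgLib.OrthSylow.torusExp q + 1 + padicValNat 2 (q - 1) := by
      have h2 : q ^ 2 - q = q * (q - 1) := by rw [Nat.mul_sub, mul_one, pow_two]
      have hv := CfsgLib.OrthSylow.val_even_pow hodd hq3 (i := 1) one_ne_zero
      rw [padicValNat.one, Nat.mul_one, Nat.add_zero] at hv
      have hne : q ^ 2 - 1 ≠ 0 := by
        have := Nat.one_lt_pow two_ne_zero (show 1 < q by omega)
        omega
      rw [h2, padicValNat.mul hne (mul_ne_zero (by omega) (by omega)), hv,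
        padicValNat.mul (by omega) (by omega),
        padicValNat.eq_zero_of_not_dvd (p := 2) (n := q) (by obtain ⟨r, hr⟩ := hodd; omega), zero_add]
    rw [← h, padicValNat.mul (by omega) Nat.card_pos.ne'] at hp
    exact Nat.add_left_cancel (hp.trans (Nat.add_comm _ _))
  rw [model, CfsgLib.Solvable.card_sup_of_disjoint (top_le_normalizer Q) hdis, top, base,
    Subgroup.card_map_of_injective permHom_injective,
    Subgroup.card_map_of_injective baseHom_injective, CfsgLib.OrthSylow.card_tree,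
    Nat.card_congr (Equiv.subtypeEquivRight
      (q := fun f : Fin n → SL F => ∀ i, f i ∈ (Q : Subgroup (SL F)))
      (fun f => by simp [Subgroup.mem_pi])),
    Nat.card_congr (Equiv.subtypePiEquivPi), Nat.card_pi, Finset.prod_const, Finset.card_univ,
    Fintype.card_fin, hQ, ← pow_mul, ← pow_add, Nat.factorization_def _ Nat.prime_two,
    CfsgLib.Symp.card_Sp, Nat.card_eq_fintype_card, ← hq]
  congr 1
  rw [padicValNat.mul (pow_ne_zero _ (by omega)) (Finset.prod_ne_zero_iff.2 fun i _ => by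
      have : 1 < q ^ (2 * (i + 1)) := Nat.one_lt_pow (by omega) (by omega)
      omega),
    CfsgLib.OrthSylow.val_q_pow hodd, CfsgLib.OrthSylow.val_prod hodd hq3]
  ring

/-- Any Sylow 2-subgroup of `Sp` is isomorphic to the model. -/
theorem exists_iso (hodd : Odd (Fintype.card F)) (Q : Sylow 2 (SL F))
    (S : Sylow 2 (Matrix.symplecticGroup (Fin n) F)) :
    Nonempty ((S : Subgroup (Matrix.symplecticGroup (Fin n) F)) ≃* model Q n) := by
  haveI : Fact (Nat.Prime 2) := ⟨Nat.prime_two⟩
  exact ⟨S.equiv (Sylow.ofCard (model Q n) (card_model hodd Q))⟩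

end Sylow

end CfsgLib.SympSylowTwo
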